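import Cfsg.Agent.H198.FC.Defs
set_option linter.all false

/-!
# S5764 [L-BR]: the passage between subgroups of `RP` and groups of semilinear bijections (helper200)
-/

set_option autoImplicit false

namespace Cfsg.Agent.H200.FC

open Cfsg.Agent.H198.FC

universe u v

section

variable {K : Type u} [Field K] {V : Type v} [AddCommGroup V] [Module K V]

/-- a linear functional with value 1 on a given nonzero vector -/
theorem exists_one (v : V) (hv : v ≠ 0) : ∃ φ : V →ₗ[K] K, φ v = 1 := by
  obtain ⟨φ, hφ⟩ := LinearMap.exists_leftInverse_of_injective (LinearMap.toSpanSingleton K V v)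
    (LinearMap.ker_toSpanSingleton K hv)
  refine ⟨φ, ?_⟩
  have := LinearMap.congr_fun hφ 1
  simpa using this

/-- the conjugate `g X g⁻¹` of a linear map by a semilinear bijection -/
def cg (g : Equiv.Perm V) (hg : g ∈ Semi K V) (X : R K V) : R K V where
  toFun v := g (X (g.symm v))
  map_add' v w := by
    obtain ⟨h0, σ, h⟩ := hg
    have h1 : g.symm (v + w) = g.symm v + g.symm w := by
      apply g.injective
      rw [h0]
      simp
    rw [h1, map_add, h0]
  map_smul' a v := by
    obtain ⟨h0, σ, h⟩ := hg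
    have h1 : g.symm (a • v) = σ.symm a • g.symm v := by
      apply g.injective
      rw [h]
      simp
    rw [h1, map_smul, h]
    simp

@[simp] theorem cg_apply (g : Equiv.Perm V) (hg : g ∈ Semi K V) (X : R K V) (v : V) :
    cg g hg X v = g (X (g.symm v)) := rfl

variable (K V) in
/-- the action of the semilinear bijections on `R` by conjugation -/
def Ph : Semi K V →* Equiv.Perm (R K V) where
  toFun g :=
    { toFun := fun X => cg g.1 g.2 X
      invFun := fun X => cg (g⁻¹).1 (g⁻¹).2 X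
      left_inv := fun X => by
        apply LinearMap.ext
        intro v
        change g.1.symm (g.1 (X (g.1.symm (g.1 v)))) = X v
        simp
      right_inv := fun X => by
        apply LinearMap.ext
        intro v
        change g.1 (g.1.symm (X (g.1 (g.1.symm v)))) = X v
        simp }
  map_one' := by
    apply Equiv.ext
    intro X
    apply LinearMap.ext
    intro v
    rfl
  map_mul' g h := by
    apply Equiv.ext
    intro X
    apply LinearMap.ext
    intro v
    rfl

@[simp] theorem Ph_apply (g : Semi K V) (X : R K V) (v : V) :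
    Ph K V g X v = g.1 (X (g.1.symm v)) := rfl

theorem Ph_apply' (g : Semi K V) (X : R K V) (v : V) :
    Ph K V g X (g.1 v) = g.1 (X v) := by simp

/-- uniqueness -/
theorem eq_Ph (g : Semi K V) (f : Equiv.Perm (R K V)) (h : ∀ (X : R K V) (v : V), f X (g.1 v) = g.1 (X v)) :
    f = Ph K V g := by
  apply Equiv.ext
  intro X
  apply LinearMap.ext
  intro v
  rw [Ph_apply, ← h]
  simp

theorem Ph_mem (g : Semi K V) : Ph K V g ∈ RP K V := by
  refine ⟨fun X Y => ?_, fun X Y => ?_⟩
  · apply LinearMap.ext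
    intro v
    rw [Ph_apply, LinearMap.add_apply, g.2.1]
    rfl
  · apply LinearMap.ext
    intro v
    rw [Ph_apply, Module.End.mul_apply, Module.End.mul_apply, Ph_apply, Ph_apply]
    simp

theorem hm_mem (a : Kˣ) : hm K V a ∈ Semi K V := by
  refine ⟨fun v w => ?_, RingEquiv.refl K, fun b v => ?_⟩
  · simp
  · simp only [hm_apply, RingEquiv.refl_apply]
    rw [smul_comm]

theorem Ph_hm (a : Kˣ) : Ph K V ⟨hm K V a, hm_mem a⟩ = 1 := by
  symm
  apply eq_Ph
  intro X v
  simp

/-- the kernel consists of homotheties -/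
theorem Ph_ker [Nontrivial V] (g : Semi K V) (h : Ph K V g = 1) : ∃ a : Kˣ, g.1 = hm K V a := by
  obtain ⟨v, hv⟩ := exists_ne (0 : V)
  obtain ⟨φ, hφ⟩ := exists_one (K := K) v hv
  have h1 : ∀ (X : R K V) (w : V), X (g.1 w) = g.1 (X w) := fun X w => by
    have h2 := Ph_apply' g X w
    rw [h] at h2
    exact h2
  have h3 : ∀ w : V, g.1 w = φ (g.1 v) • w := fun w => by
    have h4 := h1 (φ.smulRight w) v
    rw [LinearMap.smulRight_apply, LinearMap.smulRight_apply, hφ, one_smul] at h4
    exact h4.symm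
  have h5 : φ (g.1 v) ≠ 0 := by
    intro h0
    apply hv
    apply g.1.injective
    rw [h3 v, h3 0, h0, zero_smul, zero_smul]
  refine ⟨Units.mk0 _ h5, ?_⟩
  apply Equiv.ext
  intro w
  rw [hm_apply, Units.val_mk0]
  exact h3 w

/-! ### linear equivalences and units -/

theorem lin_mem (x : V ≃ₗ[K] V) : (x.toEquiv : Equiv.Perm V) ∈ Semi K V :=
  ⟨fun v w => map_add x v w, RingEquiv.refl K, fun a v => map_smul x a v⟩

/-- the linear equivalence of a unit -/
def ofU (x : (R K V)ˣ) : V ≃ₗ[K] V := LinearMap.GeneralLinearGroup.generalLinearEquiv K V x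

/-- the unit of a linear equivalence -/
def toU (x : V ≃ₗ[K] V) : (R K V)ˣ := (LinearMap.GeneralLinearGroup.generalLinearEquiv K V).symm x

theorem ofU_apply (x : (R K V)ˣ) (v : V) : ofU x v = (x : R K V) v := rfl

theorem ofU_coe (x : (R K V)ˣ) : ((ofU x : V ≃ₗ[K] V) : V →ₗ[K] V) = (x : R K V) := by
  apply LinearMap.ext
  intro v
  rfl

theorem toU_ofU (x : V ≃ₗ[K] V) : ofU (toU x) = x :=
  (LinearMap.GeneralLinearGroup.generalLinearEquiv K V).apply_symm_apply x

theorem toU_coe (x : V ≃ₗ[K] V) : ((toU x : (R K V)ˣ) : R K V) = (x : V →ₗ[K] V) := by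
  rw [← ofU_coe, toU_ofU]

theorem Ph_lin (x : (R K V)ˣ) : Ph K V ⟨(ofU x).toEquiv, lin_mem (ofU x)⟩ = cj K V x := by
  symm
  apply eq_Ph
  intro X v
  change ((x : R K V) * X * ((x⁻¹ : (R K V)ˣ) : R K V)) ((x : R K V) v) = (x : R K V) (X v)
  rw [← Module.End.mul_apply, mul_assoc, mul_assoc, Units.inv_mul, mul_one, Module.End.mul_apply]

/-! ### the group `S'` of a subgroup `S` of `RP` -/

/-- the full inverse image -/
def up (S : Subgroup (Equiv.Perm (R K V))) : Subgroup (Equiv.Perm V) :=
  (S.comap (Ph K V)).map (Semi K V).subtype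

theorem mem_up {S : Subgroup (Equiv.Perm (R K V))} {g : Equiv.Perm V} (hg : g ∈ Semi K V) :
    g ∈ up S ↔ Ph K V ⟨g, hg⟩ ∈ S := by
  constructor
  · rintro ⟨g', hg', rfl⟩
    exact hg'
  · intro h
    exact ⟨⟨g, hg⟩, h, rfl⟩

theorem up_le (S : Subgroup (Equiv.Perm (R K V))) : up S ≤ Semi K V := by
  rintro _ ⟨g, -, rfl⟩
  exact g.2

theorem up_solv [Nontrivial V] (S : Subgroup (Equiv.Perm (R K V))) (hS : Group.IsSolvable S) :
    Group.IsSolvable (up S) := by
  have h1 : Group.IsSolvable (S.comap (Ph K V)) := by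
    let f0 : Kˣ →* Semi K V := (hm K V).codRestrict (Semi K V) hm_mem
    let f : Kˣ →* (S.comap (Ph K V)) := f0.codRestrict (S.comap (Ph K V)) (fun a => by
      rw [Subgroup.mem_comap]
      have : Ph K V (f0 a) = 1 := Ph_hm a
      rw [this]
      exact one_mem _)
    apply Group.isSolvable_of_ker_le_range f ((Ph K V).subgroupComap S)
    intro g hg
    have h2 : Ph K V g.1 = 1 := by
      have := congrArg Subtype.val (MonoidHom.mem_ker.1 hg)
      exact this
    obtain ⟨a, ha⟩ := Ph_ker g.1 h2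
    refine ⟨a, ?_⟩
    apply Subtype.ext
    apply Subtype.ext
    exact ha.symm
  exact Group.isSolvable_of_surjective ((Semi K V).subtype.subgroupMap_surjective (S.comap (Ph K V)))

end

/-- **S5764 [L-BR], part 1** (from Skolem-Noether) -/
theorem stmtBridge_of (hSN : StmtSN.{u, v}) : StmtBridge.{u, v} := by
  intro K _ _ V _ _ _ hn S hS hsol
  have : Nontrivial V := Module.finrank_pos_iff.1 (by omega : 0 < Module.finrank K V)
  refine ⟨up S, up_le S, fun a => ?_, up_solv S hsol, fun g hg => ?_, fun W hW g hg w hw => ?_, ?_⟩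
  · rw [mem_up (hm_mem a), Ph_hm]
    exact one_mem _
  · rw [mem_up hg]
    constructor
    · intro h
      exact ⟨_, h, Ph_apply' ⟨g, hg⟩⟩
    · rintro ⟨f, hf, h⟩
      rw [← eq_Ph ⟨g, hg⟩ f h]
      exact hf
  · have hg' := up_le S hg
    rw [mem_up hg'] at hg
    obtain ⟨v, hv⟩ := exists_ne (0 : V)
    obtain ⟨φ, hφ⟩ := exists_one (K := K) v hv
    have h1 := hW _ hg (φ.smulRight w) (fun v => by
      rw [LinearMap.smulRight_apply]
      exact W.smul_mem _ hw) (g v)
    rw [Ph_apply' ⟨g, hg'⟩] at h1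
    change g (φ.smulRight w v) ∈ W at h1
    rwa [LinearMap.smulRight_apply, hφ, one_smul] at h1
  · rintro ⟨x, hx, hS'⟩
    refine ⟨fun i => toU (x i), fun i => ?_, fun f hf hi => ?_⟩
    · rw [toU_coe]
      exact hx i
    obtain ⟨g, hg, hgf⟩ := hSN K V hn f (hS hf)
    have h1 : f = Ph K V ⟨g, hg⟩ := eq_Ph ⟨g, hg⟩ f hgf
    have h2 : g ∈ up S := by
      rw [mem_up hg, ← h1]
      exact hf
    obtain ⟨a, ha⟩ := hS' g h2 (fun i => by
      have h3 := hi i
      rw [h1, ← Ph_lin, ← map_inv, ← map_mul, ← map_mul] at h3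
      have h4 : ((ofU (toU (x i))).toEquiv : Equiv.Perm V) * g * ((ofU (toU (x i))).toEquiv : Equiv.Perm V)⁻¹ ∈ up S :=
        (mem_up (S := S) (Subtype.property (⟨(ofU (toU (x i))).toEquiv, lin_mem (ofU (toU (x i)))⟩ * ⟨g, hg⟩ *
          (⟨(ofU (toU (x i))).toEquiv, lin_mem (ofU (toU (x i)))⟩)⁻¹ : Semi K V))).2 h3
      rwa [toU_ofU] at h4)
    have h5 : (⟨g, hg⟩ : Semi K V) = ⟨hm K V a, hm_mem a⟩ := Subtype.ext ha
    rw [h1, h5, Ph_hm]

/-- **S5764 [L-BR], part 2** -/
theorem stmtBridge2 : StmtBridge2.{u, v} := by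
  intro K _ _ V _ _ _ hn S' hS' hhm hsol
  have : Nontrivial V := Module.finrank_pos_iff.1 (by omega : 0 < Module.finrank K V)
  refine ⟨(S'.comap (Semi K V).subtype).map (Ph K V), ?_, ?_, ?_⟩
  · rintro _ ⟨g, -, rfl⟩
    exact Ph_mem g
  · have h1 : Group.IsSolvable (S'.comap (Semi K V).subtype) := by
      apply Group.isSolvable_of_isSolvable_injective (f := (Semi K V).subtype.subgroupComap S')
      intro a b hab
      apply Subtype.ext
      apply Subtype.ext
      have h2 : ((Semi K V).subtype.subgroupComap S' a).1 = ((Semi K V).subtype.subgroupComap S' b).1 := by rw [hab]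
      exact h2
    exact Group.isSolvable_of_surjective ((Ph K V).subgroupMap_surjective (S'.comap (Semi K V).subtype))
  · rintro ⟨x, hx, hF⟩
    refine ⟨fun i => ofU (x i), fun i => ?_, fun g hg hi => ?_⟩
    · rw [ofU_coe]
      exact hx i
    have hg' := hS' hg
    have h1 : Ph K V ⟨g, hg'⟩ = 1 := by
      apply hF
      · exact ⟨⟨g, hg'⟩, hg, rfl⟩
      · intro i
        rw [← Ph_lin, ← map_inv, ← map_mul, ← map_mul]
        exact ⟨_, hi i, rfl⟩
    exact Ph_ker ⟨g, hg'⟩ h1

end Cfsg.Agent.H200.FC
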